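import Cfsg.Agent.H644.KGV.Defs
import Cfsg.Agent.Characters.AverageRoots
import Cfsg.Agent.Characters.Brauer
import Cfsg.Agent.OddOrderCharacters.VChar

/-!
# Closure properties of uniformly integral families of class functions
-/

set_option autoImplicit false

open Cfsg Finset
open scoped ComplexConjugate

namespace Cfsg.Agent.H688.KGV.UI

open Cfsg.Agent.H644.KGV Cfsg.Agent.Characters Cfsg.Agent.OddOrderCharacters.VChar

variable {p : ℕ} [NeZero p] {G : Type*} [Group G]

/-- A nontrivial additive character sums to zero. -/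
theorem sum_std (a : ZMod p) (ha : a ≠ 0) :
    ∑ k : ZMod p, (ZMod.stdAddChar (a * k) : ℂ) = 0 := by
  have h := AddChar.sum_mulShift (ψ := (ZMod.stdAddChar : AddChar (ZMod p) ℂ)) a
    (ZMod.isPrimitive_stdAddChar p)
  rw [if_neg ha] at h
  simpa [mul_comm] using h

/-- Change of the family at no index `a ≠ 0`. -/
theorem congr {κ κ' : ZMod p → G → ℂ} (h : UInt p G κ) (hk : ∀ a, a ≠ 0 → ∀ g, κ' a g = κ a g) :
    UInt p G κ' := by
  obtain ⟨θ, h1, h2⟩ := h
  exact ⟨θ, h1, fun a ha g => by rw [hk a ha g, h2 a ha g]⟩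

theorem congr_iff {κ κ' : ZMod p → G → ℂ} (hk : ∀ a, a ≠ 0 → ∀ g, κ' a g = κ a g) :
    UInt p G κ' ↔ UInt p G κ :=
  ⟨fun h => congr h fun a ha g => (hk a ha g).symm, fun h => congr h hk⟩

/-- A sum of twisted generalized characters over any finite set. -/
theorem of_sum {ι : Type*} (s : Finset ι) (t : ι → ZMod p) (χ : ι → G → ℂ)
    (hχ : ∀ i ∈ s, IsGeneralizedCharacter G (χ i)) :
    UInt p G (fun a g => ∑ i ∈ s, (ZMod.stdAddChar (a * t i) : ℂ) * χ i g) := by
  classical
  refine ⟨fun k => ∑ i ∈ s with t i = k, χ i, fun k => gen_sum _ fun i hi =>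
    hχ i (mem_filter.1 hi).1, fun a _ g => ?_⟩
  dsimp only
  rw [← sum_fiberwise s t]
  refine sum_congr rfl fun k _ => ?_
  rw [Finset.sum_apply, mul_sum]
  exact sum_congr rfl fun i hi => by rw [(mem_filter.1 hi).2]

/-- A generalized character (independent of `a`). -/
theorem gen {θ : G → ℂ} (hθ : IsGeneralizedCharacter G θ) : UInt p G (fun _ => θ) := by
  refine congr (of_sum (p := p) (univ : Finset Unit) (fun _ => 0) (fun _ => θ) fun _ _ => hθ)
    fun a _ g => ?_
  simp

theorem zero : UInt p G (fun _ _ => 0) := gen gen_zero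

theorem one : UInt p G (fun _ _ => 1) := gen gen_one

/-- An integral combination of powers of `ζ_p ^ a` is uniformly integral. -/
theorem scalar (m : ZMod p → ℤ) :
    UInt p G (fun a _ => ∑ k : ZMod p, (ZMod.stdAddChar (a * k) : ℂ) * (m k : ℂ)) := by
  refine ⟨fun k => (m k : ℂ) • (1 : G → ℂ), fun k => gen_intCast_smul _ gen_one,
    fun a _ g => ?_⟩
  simp

theorem intConst (m : ℤ) : UInt p G (fun _ _ => (m : ℂ)) := by
  have h : IsGeneralizedCharacter G ((m : ℂ) • (1 : G → ℂ)) := gen_intCast_smul _ gen_one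
  refine congr (gen (p := p) h) fun a _ g => ?_
  simp

theorem add {κ κ' : ZMod p → G → ℂ} (h : UInt p G κ) (h' : UInt p G κ') :
    UInt p G (fun a g => κ a g + κ' a g) := by
  obtain ⟨θ, h1, h2⟩ := h
  obtain ⟨θ', h1', h2'⟩ := h'
  refine ⟨fun k => θ k + θ' k, fun k => gen_add (h1 k) (h1' k), fun a ha g => ?_⟩
  dsimp only
  rw [h2 a ha g, h2' a ha g, ← sum_add_distrib]
  exact sum_congr rfl fun k _ => by rw [Pi.add_apply, mul_add]

theorem neg {κ : ZMod p → G → ℂ} (h : UInt p G κ) : UInt p G (fun a g => -κ a g) := by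
  obtain ⟨θ, h1, h2⟩ := h
  refine ⟨fun k => -θ k, fun k => gen_neg (h1 k), fun a ha g => ?_⟩
  dsimp only
  rw [h2 a ha g, ← sum_neg_distrib]
  exact sum_congr rfl fun k _ => by rw [Pi.neg_apply, mul_neg]

theorem sub {κ κ' : ZMod p → G → ℂ} (h : UInt p G κ) (h' : UInt p G κ') :
    UInt p G (fun a g => κ a g - κ' a g) := by
  refine congr (add h (neg h')) fun a _ g => ?_
  rw [sub_eq_add_neg]

theorem sum {ι : Type*} (s : Finset ι) {κ : ι → ZMod p → G → ℂ} (h : ∀ i ∈ s, UInt p G (κ i)) :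
    UInt p G (fun a g => ∑ i ∈ s, κ i a g) := by
  classical
  induction s using Finset.induction_on with
  | empty => simpa using zero
  | insert i s hi ih =>
    refine congr (add (h i (mem_insert_self i s)) (ih fun j hj => h j (mem_insert_of_mem hj)))
      fun a _ g => ?_
    rw [sum_insert hi]

theorem mul {κ κ' : ZMod p → G → ℂ} (h : UInt p G κ) (h' : UInt p G κ') :
    UInt p G (fun a g => κ a g * κ' a g) := by
  obtain ⟨θ, h1, h2⟩ := h
  obtain ⟨θ', h1', h2'⟩ := h'
  refine congr (of_sum (p := p) (univ : Finset (ZMod p × ZMod p)) (fun x => x.1 + x.2)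
    (fun x => θ x.1 * θ' x.2) fun x _ => gen_mul (h1 _) (h1' _)) fun a ha g => ?_
  rw [h2 a ha g, h2' a ha g, sum_mul_sum, ← univ_product_univ, sum_product]
  refine sum_congr rfl fun k _ => sum_congr rfl fun l _ => ?_
  rw [mul_add, AddChar.map_add_eq_mul, Pi.mul_apply]
  ring

theorem prod {ι : Type*} (s : Finset ι) {κ : ι → ZMod p → G → ℂ}
    (h : ∀ i ∈ s, UInt p G (κ i)) : UInt p G (fun a g => ∏ i ∈ s, κ i a g) := by
  classical
  induction s using Finset.induction_on with
  | empty => simpa using one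
  | insert i s hi ih =>
    refine congr (mul (h i (mem_insert_self i s)) (ih fun j hj => h j (mem_insert_of_mem hj)))
      fun a _ g => ?_
    rw [prod_insert hi]

theorem pow {κ : ZMod p → G → ℂ} (h : UInt p G κ) (n : ℕ) :
    UInt p G (fun a g => κ a g ^ n) := by
  refine congr (prod (range n) (κ := fun _ => κ) fun _ _ => h) fun a _ g => ?_
  simp

/-- Multiplication by a generalized character. -/
theorem gen_mul_left {θ : G → ℂ} (hθ : IsGeneralizedCharacter G θ) {κ : ZMod p → G → ℂ}
    (h : UInt p G κ) : UInt p G (fun a g => θ g * κ a g) :=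
  mul (gen hθ) h

theorem zsmul (m : ℤ) {κ : ZMod p → G → ℂ} (h : UInt p G κ) :
    UInt p G (fun a g => (m : ℂ) * κ a g) :=
  mul (intConst m) h

/-- Composition with a homomorphism. -/
theorem comp {H : Type*} [Group H] (f : H →* G) {κ : ZMod p → G → ℂ} (h : UInt p G κ) :
    UInt p H (fun a x => κ a (f x)) := by
  obtain ⟨θ, h1, h2⟩ := h
  exact ⟨fun k => θ k ∘ f, fun k => gen_comp f (h1 k), fun a ha x => h2 a ha (f x)⟩

theorem restrict (H : Subgroup G) {κ : ZMod p → G → ℂ} (h : UInt p G κ) :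
    UInt p H (fun a (x : H) => κ a x) :=
  comp H.subtype h

/-- Induction. -/
theorem ind [Fintype G] (H : Subgroup G) {κ : ZMod p → H → ℂ} (h : UInt p H κ) :
    UInt p G (fun a => indFun H (κ a)) := by
  obtain ⟨θ, h1, h2⟩ := h
  refine ⟨fun k => indFun H (θ k), fun k => Brauer.isGeneralizedCharacter_indFun H (h1 k),
    fun a ha g => ?_⟩
  have h3 : κ a = ∑ k : ZMod p, (ZMod.stdAddChar (a * k) : ℂ) • θ k := by
    funext x
    rw [h2 a ha x, Finset.sum_apply]
    rfl
  show indFun H (κ a) g = _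
  rw [h3, Brauer.indFun_sum, Finset.sum_apply]
  refine sum_congr rfl fun k _ => ?_
  rw [Brauer.indFun_smul]
  rfl

/-- The members of a uniformly integral family are class functions. -/
theorem isClassFunction {κ : ZMod p → G → ℂ} (h : UInt p G κ) {a : ZMod p} (ha : a ≠ 0) :
    IsClassFunction G (κ a) := by
  obtain ⟨θ, h1, h2⟩ := h
  intro g x
  rw [h2 a ha, h2 a ha]
  exact sum_congr rfl fun k _ => by rw [gen_isClassFunction (h1 k) g x]

/-- The generalized characters may be taken to be characters. -/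
theorem genuine {κ : ZMod p → G → ℂ} (h : UInt p G κ) :
    ∃ θ : ZMod p → G → ℂ, (∀ k, IsCharacter G (θ k)) ∧
      ∀ a, a ≠ 0 → ∀ g, κ a g = ∑ k : ZMod p, (ZMod.stdAddChar (a * k) : ℂ) * θ k g := by
  classical
  obtain ⟨θ, h1, h2⟩ := h
  choose χ ψ h3 h4 h5 using h1
  refine ⟨fun k => χ k + ∑ j ∈ univ.erase k, ψ j, fun k => Core.isCharacter_add (h3 k)
    (Core.isCharacter_sum _ fun j _ => h4 j), fun a ha g => ?_⟩
  have h6 : ∀ k, (χ k + ∑ j ∈ univ.erase k, ψ j) g = θ k g + ∑ j, ψ j g := by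
    intro k
    rw [h5 k, Pi.add_apply, Pi.sub_apply, Finset.sum_apply,
      ← add_sum_erase univ (fun j => ψ j g) (mem_univ k)]
    ring
  simp_rw [h6, mul_add]
  rw [sum_add_distrib, ← h2 a ha g, ← sum_mul, sum_std a ha, zero_mul, add_zero]

/-- Change of the root of unity. -/
theorem scale {κ : ZMod p → G → ℂ} (h : UInt p G κ) (c : ZMod p) (hc : IsUnit c) :
    UInt p G (fun a => κ (c * a)) := by
  obtain ⟨θ, h1, h2⟩ := h
  refine congr (of_sum (p := p) (univ : Finset (ZMod p)) (fun k => c * k) θ fun k _ => h1 k)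
    fun a ha g => ?_
  have h3 : c * a ≠ 0 := fun h0 => ha ((hc.mul_right_eq_zero).1 h0)
  rw [h2 _ h3 g]
  refine sum_congr rfl fun k _ => ?_
  rw [show c * a * k = a * (c * k) by ring]

/-- The Gauss sums of a linear character. -/
theorem PG_lin (T : ℕ → ℕ → ZMod p) (f : ℕ) (c : ZMod p) (lam : G →* ℂ) :
    UInt p G (fun a g => PG p T f (c * a) (lam g)) := by
  refine congr (neg (of_sum (p := p) (range (p ^ f - 1)) (fun j => c * T f j)
    (fun j g => lam g ^ j) fun j _ => ?_)) fun a _ g => ?_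
  · have h : IsCharacter G (fun g => (lam ^ j) g) := Brauer.isCharacter_of_monoidHom (lam ^ j)
    have h2 : (fun g => (lam ^ j) g) = fun g => lam g ^ j := by
      funext g
      simp
    rw [h2] at h
    exact gen_of_char h
  · unfold PG
    congr 1
    refine sum_congr rfl fun j _ => ?_
    rw [show c * a * T f j = a * (c * T f j) by ring]

/-- The Gauss sums of a linear character with values in the units. -/
theorem PG_lin_units (T : ℕ → ℕ → ZMod p) (f : ℕ) (c : ZMod p) (lam : G →* ℂˣ) :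
    UInt p G (fun a g => PG p T f (c * a) (lam g : ℂ)) :=
  PG_lin T f c ((Units.coeHom ℂ).comp lam)

/-- Multiplication of a family of class functions by an element of the span of the functions
induced from elementary subgroups. -/
theorem mul_of_closure [Fintype G] {κ : ZMod p → G → ℂ}
    (hcl : ∀ a, a ≠ 0 → IsClassFunction G (κ a))
    (h : ∀ (E : Subgroup G) (ℓ : ℕ), ℓ.Prime → IsElementary ℓ E →
      UInt p E (fun a (e : E) => κ a e)) (u : G → ℂ)
    (hu : u ∈ AddSubgroup.closure {f : G → ℂ | ∃ (E : Subgroup G) (ℓ : ℕ) (φ : E → ℂ),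
      ℓ.Prime ∧ IsElementary ℓ E ∧ IsCharacter E φ ∧ f = indFun E φ}) :
    UInt p G (fun a g => u g * κ a g) := by
  induction hu using AddSubgroup.closure_induction with
  | mem x hx =>
    obtain ⟨E, ℓ, φ, hℓ, hE, hφ, rfl⟩ := hx
    refine congr (ind E (gen_mul_left (gen_of_char hφ) (h E ℓ hℓ hE))) fun a ha g => ?_
    have := Brauer.indFun_mul E φ (κ a) (hcl a ha)
    rw [← this]
    rfl
  | zero => exact congr zero fun a _ g => by simp
  | add x y _ _ hx hy =>
    exact congr (add hx hy) fun a _ g => by rw [Pi.add_apply, add_mul]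
  | neg x _ hx => exact congr (neg hx) fun a _ g => by rw [Pi.neg_apply, neg_mul]

/-- Uniform integrality can be tested on the elementary subgroups. -/
theorem glue [Finite G] {κ : ZMod p → G → ℂ} (hcl : ∀ a, a ≠ 0 → IsClassFunction G (κ a))
    (h : ∀ (E : Subgroup G) (ℓ : ℕ), ℓ.Prime → IsElementary ℓ E →
      UInt p E (fun a (e : E) => κ a e)) : UInt p G κ := by
  have : Fintype G := Fintype.ofFinite G
  refine congr (mul_of_closure hcl h 1 (Brauer.one_mem_brauer G)) fun a _ g => ?_
  simp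

/-- The scalar products with a generalized character are uniformly integral. -/
theorem exists_int [Fintype G] {κ : ZMod p → G → ℂ} (h : UInt p G κ) {χ : G → ℂ}
    (hχ : IsGeneralizedCharacter G χ) :
    ∃ m : ZMod p → ℤ, ∀ a, a ≠ 0 →
      (Nat.card G : ℂ)⁻¹ * ∑ g : G, χ g * κ a g =
        ∑ k : ZMod p, (ZMod.stdAddChar (a * k) : ℂ) * (m k : ℂ) := by
  obtain ⟨θ, h1, h2⟩ := h
  have h3 : ∀ k, ∃ n : ℤ, classInner χ (conjFun (θ k)) = n := fun k =>
    gen_inner hχ (gen_conjFun (h1 k))
  choose m hm using h3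
  refine ⟨m, fun a ha => ?_⟩
  simp_rw [← hm]
  unfold classInner
  simp_rw [h2 a ha, mul_sum]
  rw [sum_comm]
  refine sum_congr rfl fun k _ => sum_congr rfl fun g _ => ?_
  simp only [conjFun, Complex.conj_conj]
  ring

/-- The same for `classInner χ (conj κ)`. -/
theorem exists_int_classInner [Fintype G] {κ : ZMod p → G → ℂ} (h : UInt p G κ) {χ : G → ℂ}
    (hχ : IsGeneralizedCharacter G χ) :
    ∃ m : ZMod p → ℤ, ∀ a, a ≠ 0 →
      classInner χ (fun g => conj (κ a g)) =
        ∑ k : ZMod p, (ZMod.stdAddChar (a * k) : ℂ) * (m k : ℂ) := by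
  obtain ⟨m, hm⟩ := exists_int h hχ
  refine ⟨m, fun a ha => ?_⟩
  rw [← hm a ha]
  unfold classInner
  simp

/-- The values of a uniformly integral family are algebraic integers (finite groups). -/
theorem isIntegral [Finite G] {κ : ZMod p → G → ℂ} (h : UInt p G κ) {a : ZMod p} (ha : a ≠ 0)
    (g : G) : IsIntegral ℤ (κ a g) := by
  obtain ⟨θ, h1, h2⟩ := genuine h
  rw [h2 a ha g]
  refine IsIntegral.sum _ fun k _ => IsIntegral.mul ?_ ?_
  · have h3 : (ZMod.stdAddChar (a * k) : ℂ) ^ p = 1 := by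
      rw [← AddChar.map_nsmul_eq_pow]
      simp
    exact IsIntegral.of_pow (Nat.pos_of_ne_zero (NeZero.ne p)) (by rw [h3]; exact isIntegral_one)
  · obtain ⟨n, ρ, hρ⟩ := h1 k
    rw [← hρ]
    exact AverageRoots.isIntegral_character ρ g

end Cfsg.Agent.H688.KGV.UI
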